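import Groth.Prelude.Def_ClSub2
import Groth.Agent.CycKSuppLib.Killed
import Groth.Agent.SweepSix.ConormalSpec
import Groth.Agent.GenFlatStrat.FGExtend
import Groth.Agent.IntMultLib.Cartier
import Groth.Agent.ProjFormLib.Proj
import Groth.Agent.VBResLib.KPull
import Groth.Agent.CohCmpLib.FamilyPic2
import Groth.Agent.PerfLib.Coherent
import Groth.Agent.CurvLib.EulerTensor
import Groth.Agent.CurvLib.Divisor

/-! Lifting morphisms of vector bundles along a square zero thickening. -/

set_option autoImplicit false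
set_option linter.style.haveILetI false
universe u

noncomputable section

open CategoryTheory CategoryTheory.Limits AlgebraicGeometry TopologicalSpace Opposite
open CategoryTheory.Abelian
open scoped TensorProduct

namespace LiftHomLib

variable {X : Scheme.{u}} (I : X.IdealSheafData)

local notation "ι₀" => Scheme.IdealSheafData.subschemeι I
local notation "pb₀" => Scheme.Modules.pullback (Scheme.IdealSheafData.subschemeι I)

theorem shortExact_tensor {E : X.Modules} (hE : FlatMod.IsFinLocFree E)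
    {S : ShortComplex X.Modules} (hS : S.ShortExact) :
    (S.map ((DCoh.tensorBi (X := X)).obj E)).ShortExact := by
  refine CurvLib.shortExact_of_stalks _ fun x => ?_
  let St' := DerSch.stalkFunctor X x
  haveI : Module.Free (X.presheaf.stalk x) (St'.obj E) := MiscFlat6.free_stalk_of_isFinLocFree hE x
  have hx := hS.map_of_exact St'
  let T := (S.map St').map (MonoidalCategory.tensorLeft (St'.obj E))
  have hT : T.ShortExact :=
    { exact := Module.Flat.lTensor_shortComplex_exact (St'.obj E) _ hx.exact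
      mono_f := (ModuleCat.mono_iff_injective _).mpr
        (Module.Flat.lTensor_preserves_injective_linearMap _
          ((ModuleCat.mono_iff_injective _).mp hx.mono_f))
      epi_g := (ModuleCat.epi_iff_surjective _).mpr
        (LinearMap.lTensor_surjective _ ((ModuleCat.epi_iff_surjective _).mp hx.epi_g)) }
  exact ShortComplex.shortExact_of_iso
    (ShortComplex.isoMk (KFlatLib.stalkTensorIso E S.X₁ x) (KFlatLib.stalkTensorIso E S.X₂ x)
      (KFlatLib.stalkTensorIso E S.X₃ x)
      (KFlatLib.stalkTensorIso_natural_right (M := E) x S.f).symm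
      (KFlatLib.stalkTensorIso_natural_right (M := E) x S.g).symm :
      T ≅ (S.map ((DCoh.tensorBi (X := X)).obj E)).map St') hT

/-- Tensor products of modules killed by the ideal are killed. -/
theorem kil_tensor {Z : Scheme.{u}} (i : Z ⟶ X) {M : X.Modules} (N : X.Modules) (hM : CycKSuppLib.Kil i M) :
    CycKSuppLib.Kil i (CohB1.tensorMod M N) := by
  refine ⟨fun x hx => hM.1 fun h => hx ?_, fun z r hr m => ?_⟩
  · haveI : Subsingleton (M.presheaf.stalk x) := h
    exact Function.Surjective.subsingleton (KFlatLib.stalkTensorLin_bijective M N x).2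
  · obtain ⟨t, rfl⟩ := (KFlatLib.stalkTensorLin_bijective M N (i z)).2 m
    refine ((KFlatLib.stalkTensorLin M N (i z)).map_smul r t).symm.trans ?_
    have : r • t = 0 := by
      induction t with
      | zero => exact smul_zero _
      | add a b ha hb => rw [smul_add, ha, hb, add_zero]
      | tmul a b =>
        rw [TensorProduct.smul_tmul', show r • a = 0 from hM.2 z r hr a, TensorProduct.zero_tmul]
    rw [this, map_zero]
    rfl

theorem kil_idealMod (hI : I ^ 2 = ⊥) : CycKSuppLib.Kil ι₀ (ClSub.idealMod I) := by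
  refine CycKSuppLib.kil_of_killed _ fun U a ha m => ?_
  rw [Scheme.IdealSheafData.ker_subschemeι] at ha
  refine (IntMultLib.idealModι_app_injective I U.1) (Eq.trans ?_ (map_zero ((ClSub.idealModι I).app U.1).hom).symm)
  refine ((ClSub.idealModι I).app_smul a m).trans ?_
  have hm := GenFlatStrat.idealModι_mem I U m
  have : (a * OmegaSh.fnSect X U.1 ((ClSub.idealModι I).app U.1 m) : Γ(X, U.1)) ∈ (I ^ 2).ideal U := by
    rw [Scheme.IdealSheafData.ideal_pow, Pi.pow_apply, pow_two]
    exact Ideal.mul_mem_mul ha hm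
  rw [hI] at this
  exact (Submodule.mem_bot _).1 this

variable (F : X.Modules) (hF : FlatMod.IsFinLocFree F)

/-- The coefficient module. -/
abbrev coeff : I.subscheme.Modules :=
  CohB1.tensorMod ((pb₀).obj (ClSub.idealMod I)) ((pb₀).obj F)

/-- A short exact sequence `0 → i_*(I ⊗ F₀) → F → i_* F₀ → 0` whose second map is the unit followed
by an automorphism of `F₀`. -/
theorem exists_seq (hI : I ^ 2 = ⊥) (hF : FlatMod.IsFinLocFree F) :
    ∃ (a : (Scheme.Modules.pushforward ι₀).obj (coeff I F) ⟶ F) (φ : (pb₀).obj F ≅ (pb₀).obj F)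
      (w : a ≫ (Scheme.Modules.pullbackPushforwardAdjunction ι₀).homEquiv F _ φ.hom = 0),
      (ShortComplex.mk a _ w).ShortExact := by
  let T := (CurvLib.idealSeq I).map ((DCoh.tensorBi (X := X)).obj F)
  have hT : T.ShortExact := shortExact_tensor hF (CurvLib.idealSeq_shortExact I)
  let e₂ : T.X₂ ≅ F := KFlatLib.tensSwap (Coh.structureModule X) F ≪≫ KFlatLib.tensUnitIso F
  haveI := ProjFormLib.isIso_projApp (f := ι₀) hF (Coh.structureModule I.subscheme)
  let e₃ : T.X₃ ≅ (Scheme.Modules.pushforward ι₀).obj ((pb₀).obj F) :=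
    @asIso _ _ _ _ (ProjFormLib.projApp ι₀ F (Coh.structureModule I.subscheme)) this ≪≫
      (Scheme.Modules.pushforward ι₀).mapIso (KFlatLib.tensSwap (Coh.structureModule I.subscheme) _ ≪≫
        KFlatLib.tensUnitIso _)
  have hk : CycKSuppLib.Kil ι₀ T.X₁ :=
    (kil_tensor ι₀ F (kil_idealMod I hI)).of_iso (KFlatLib.tensSwap _ _)
  haveI := KFlatLib.isIso_pullθ ι₀ F (ClSub.idealMod I)
  let eN : coeff I F ≅ (pb₀).obj T.X₁ :=
    KFlatLib.tensSwap _ _ ≪≫ (@asIso _ _ _ _ (KFlatLib.pullθ ι₀ F (ClSub.idealMod I)) this).symm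
  let e₁ : (Scheme.Modules.pushforward ι₀).obj (coeff I F) ≅ T.X₁ :=
    (Scheme.Modules.pushforward ι₀).mapIso eN ≪≫ CycKSuppLib.pushPullIso ι₀ hk
  let g : F ⟶ (Scheme.Modules.pushforward ι₀).obj ((pb₀).obj F) := e₂.inv ≫ T.g ≫ e₃.hom
  haveI := hT.epi_g
  haveI : Epi g := inferInstanceAs (Epi (e₂.inv ≫ T.g ≫ e₃.hom))
  let φ : (pb₀).obj F ⟶ (pb₀).obj F :=
    ((Scheme.Modules.pullbackPushforwardAdjunction ι₀).homEquiv F _).symm g
  haveI : Epi φ := by
    haveI : (pb₀).IsLeftAdjoint := (Scheme.Modules.pullbackPushforwardAdjunction ι₀).isLeftAdjoint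
    haveI := CycKSuppLib.isIso_counit ι₀ ((pb₀).obj F)
    rw [show φ = (pb₀).map g ≫ _ from Adjunction.homEquiv_counit _ _ _ _]
    infer_instance
  have hc := Groth.Agent.PerfLib.isCoh_of_isFinLocFree (KFlatLib.isFinLocFree_pull ι₀ hF)
  haveI : Coh.IsQCoh ((pb₀).obj F) := hc.1
  haveI : IsIso φ := CohCmpLib.isIso_of_epi_of_iso hc.2 (Iso.refl _) φ
  have hg : (Scheme.Modules.pullbackPushforwardAdjunction ι₀).homEquiv F _ (asIso φ).hom = g :=
    Equiv.apply_symm_apply _ _
  let a := e₁.hom ≫ T.f ≫ e₂.hom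
  have w0 : a ≫ g = 0 := by
    simp only [a, g, Category.assoc, Iso.hom_inv_id_assoc, reassoc_of% T.zero, zero_comp, comp_zero]
  refine ⟨a, asIso φ, by rw [hg]; exact w0, ?_⟩
  refine ShortComplex.shortExact_of_iso (ShortComplex.isoMk e₁.symm e₂ e₃ ?_ ?_) hT
  · simp [a]
  · refine Eq.trans (congrArg (e₂.hom ≫ ·) hg) ?_
    simp [g]

variable {F}

theorem hom_eq_of_pullback_eq (hI : I ^ 2 = ⊥) {E : X.Modules} (hF : FlatMod.IsFinLocFree F)
    (h0 : Subsingleton ((pb₀).obj E ⟶ coeff I F)) (u u' : E ⟶ F)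
    (h : (pb₀).map u = (pb₀).map u') : u = u' := by
  obtain ⟨a, φ, w, hS⟩ := exists_seq I F hI hF
  haveI := hS.mono_f
  let adj := Scheme.Modules.pullbackPushforwardAdjunction ι₀
  have h1 : (u - u') ≫ adj.homEquiv F _ φ.hom = 0 := by
    rw [Preadditive.sub_comp, sub_eq_zero, ← Adjunction.homEquiv_naturality_left,
      ← Adjunction.homEquiv_naturality_left, h]
  obtain ⟨b, hb⟩ := KernelFork.IsLimit.lift' hS.fIsKernel _ h1
  have : b = 0 := (adj.homEquiv E (coeff I F)).symm.injective (@Subsingleton.elim _ h0 _ _)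
  have hb' : b ≫ a = u - u' := hb
  rw [this, zero_comp] at hb'
  exact sub_eq_zero.1 hb'.symm

theorem exists_lift_hom (hI : I ^ 2 = ⊥) {E : X.Modules} (hE : FlatMod.IsFinLocFree E)
    (hF : FlatMod.IsFinLocFree F) [HasExt.{u} I.subscheme.Modules]
    (h1 : Subsingleton (Ext.{u} ((pb₀).obj E) (coeff I F) 1))
    (u₀ : (pb₀).obj E ⟶ (pb₀).obj F) : ∃ u : E ⟶ F, (pb₀).map u = u₀ := by
  obtain ⟨a, φ, w, hS⟩ := exists_seq I F hI hF
  haveI := hS.mono_f
  haveI := hS.epi_g
  let adj := Scheme.Modules.pullbackPushforwardAdjunction ι₀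
  let g := adj.homEquiv F _ φ.hom
  haveI : Epi g := hS.epi_g
  let t := adj.homEquiv E _ (u₀ ≫ φ.hom)
  let j : (Scheme.Modules.pushforward ι₀).obj (coeff I F) ⟶ pullback g t :=
    pullback.lift a 0 (by rw [zero_comp]; exact w)
  have hj : j ≫ pullback.snd g t = 0 := pullback.lift_snd _ _ _
  let P := ShortComplex.mk j (pullback.snd g t) hj
  haveI : Mono j := mono_of_mono_fac (pullback.lift_fst _ _ _ : j ≫ pullback.fst g t = a)
  have hP : P.ShortExact :=
    { exact := P.exact_of_f_is_kernel (KernelFork.IsLimit.ofι' j hj fun {W} k hk => by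
        have hk' : (k ≫ pullback.fst g t) ≫ g = 0 := by
          rw [Category.assoc, pullback.condition, reassoc_of% hk, zero_comp]
        let l := KernelFork.IsLimit.lift' hS.fIsKernel _ hk'
        refine ⟨l.1, pullback.hom_ext ?_ ?_⟩
        · rw [Category.assoc, pullback.lift_fst]
          exact l.2
        · rw [Category.assoc, pullback.lift_snd, comp_zero, hk])
      mono_f := inferInstanceAs (Mono j)
      epi_g := inferInstanceAs (Epi (pullback.snd g t)) }
  haveI : (pb₀).IsLeftAdjoint := adj.isLeftAdjoint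
  haveI : (pb₀).Additive := adj.left_adjoint_additive
  have hP' := VBResLib.shortExact_pullback_of_vb ι₀ hP hE
  haveI := CycKSuppLib.isIso_counit ι₀ (coeff I F)
  let c := adj.counit.app (coeff I F)
  haveI : IsIso c := this
  have hz : hP'.extClass.comp (Ext.mk₀ c) (add_zero 1) = 0 := @Subsingleton.elim _ h1 _ _
  obtain ⟨y, hy⟩ := Ext.contravariant_sequence_exact₁ hP' _ (Ext.mk₀ c) (add_zero 1) hz
  obtain ⟨r, rfl⟩ := (Ext.mk₀_bijective _ _).2 y
  rw [Ext.mk₀_comp_mk₀] at hy
  have hr : (pb₀).map j ≫ r = c := (Ext.mk₀_bijective _ _).1 hy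
  have hr' : j ≫ adj.homEquiv _ _ r = 𝟙 _ := by
    refine ((adj.homEquiv_naturality_left j r).symm).trans ?_
    rw [hr]
    exact (adj.homEquiv_unit _ _ _).trans (adj.right_triangle_components _)
  let σ := ShortComplex.Splitting.ofExactOfRetraction P hP.exact (adj.homEquiv _ _ r) hr' hP.epi_g
  refine ⟨σ.s ≫ pullback.fst g t, ?_⟩
  have hu : (σ.s ≫ pullback.fst g t) ≫ g = t := by
    rw [Category.assoc, pullback.condition]
    erw [reassoc_of% σ.s_g]
  rw [← Adjunction.homEquiv_naturality_left] at hu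
  exact (cancel_mono φ.hom).1 ((adj.homEquiv E _).injective hu)

/-- An endomorphism reducing to the identity is invertible. -/
theorem isIso_of_pullback_eq_id (hI : I ^ 2 = ⊥) {E : X.Modules} (hE : FlatMod.IsFinLocFree E)
    (v : E ⟶ E) (h : (pb₀).map v = 𝟙 _) : IsIso v := by
  obtain ⟨a, φ, w, hS⟩ := exists_seq I E hI hE
  let adj := Scheme.Modules.pullbackPushforwardAdjunction ι₀
  haveI : (pb₀).IsLeftAdjoint := adj.isLeftAdjoint
  haveI : (pb₀).Additive := adj.left_adjoint_additive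
  let δ := v - 𝟙 E
  have hδ : (pb₀).map δ = 0 := by
    rw [Functor.map_sub, h, CategoryTheory.Functor.map_id, sub_self]
  have h1 : δ ≫ adj.homEquiv E _ φ.hom = 0 := by
    rw [← Adjunction.homEquiv_naturality_left, hδ, zero_comp, Adjunction.homEquiv_unit, Functor.map_zero, comp_zero]
  obtain ⟨b, hb⟩ := KernelFork.IsLimit.lift' hS.fIsKernel _ h1
  have hb' : b ≫ a = δ := hb
  have w' : a ≫ adj.homEquiv E _ φ.hom = 0 := w
  have hη : a ≫ adj.unit.app E = 0 := by
    rw [← cancel_mono ((Scheme.Modules.pushforward ι₀).map φ.hom), Category.assoc, zero_comp,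
      ← Adjunction.homEquiv_unit]
    exact w'
  have hab : a ≫ b = 0 := by
    have hbb : adj.unit.app E ≫ (Scheme.Modules.pushforward ι₀).map ((adj.homEquiv E _).symm b) = b :=
      (adj.homEquiv_unit _ _ _).symm.trans (Equiv.apply_symm_apply _ _)
    rw [← hbb, ← Category.assoc, hη, zero_comp]
  have hδ2 : δ ≫ δ = 0 := by
    rw [← hb', Category.assoc, reassoc_of% hab, zero_comp, comp_zero]
  have hv : v = 𝟙 E + δ := by simp [δ]
  refine ⟨𝟙 E - δ, ?_, ?_⟩
  · rw [hv]; simp [Preadditive.add_comp, Preadditive.comp_sub, hδ2]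
  · rw [hv]; simp [Preadditive.sub_comp, Preadditive.comp_add, hδ2]

theorem nonempty_iso (hI : I ^ 2 = ⊥) {E E' : X.Modules} (hE : FlatMod.IsFinLocFree E)
    (hE' : FlatMod.IsFinLocFree E') (e : (pb₀).obj E ≅ (pb₀).obj E') [HasExt.{u} I.subscheme.Modules]
    (h1 : Subsingleton (Ext.{u} ((pb₀).obj E) (coeff I E) 1)) : Nonempty (E ≅ E') := by
  let c : coeff I E ≅ coeff I E' := ((DCoh.tensorBi (X := I.subscheme)).obj _).mapIso e
  have hA : Subsingleton (Ext.{u} ((pb₀).obj E) (coeff I E') 1) := by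
    refine ⟨fun x y => ?_⟩
    have hc : ∀ z : Ext.{u} ((pb₀).obj E) (coeff I E') 1, z = 0 := fun z => by
      have : (z.comp (Ext.mk₀ c.inv) (add_zero 1)).comp (Ext.mk₀ c.hom) (add_zero 1) = z := by
        rw [Ext.comp_assoc_of_second_deg_zero, Ext.mk₀_comp_mk₀, Iso.inv_hom_id, Ext.comp_mk₀_id]
      rw [← this, @Subsingleton.elim _ h1 (z.comp _ _) 0, Ext.zero_comp]
    rw [hc x, hc y]
  have hB : Subsingleton (Ext.{u} ((pb₀).obj E') (coeff I E) 1) := by
    refine ⟨fun x y => ?_⟩
    have hc : ∀ z : Ext.{u} ((pb₀).obj E') (coeff I E) 1, z = 0 := fun z => by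
      have : (Ext.mk₀ e.inv).comp ((Ext.mk₀ e.hom).comp z (zero_add 1)) (zero_add 1) = z := by
        rw [← Ext.comp_assoc_of_second_deg_zero, Ext.mk₀_comp_mk₀, Iso.inv_hom_id, Ext.mk₀_id_comp]
      rw [← this, @Subsingleton.elim _ h1 ((Ext.mk₀ e.hom).comp z _) 0, Ext.comp_zero]
    rw [hc x, hc y]
  obtain ⟨u, hu⟩ := exists_lift_hom I hI hE hE' hA e.hom
  obtain ⟨v, hv⟩ := exists_lift_hom I hI hE' hE hB e.inv
  haveI := isIso_of_pullback_eq_id I hI hE (u ≫ v) (by rw [Functor.map_comp, hu, hv, Iso.hom_inv_id])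
  haveI := isIso_of_pullback_eq_id I hI hE' (v ≫ u) (by rw [Functor.map_comp, hu, hv, Iso.inv_hom_id])
  haveI : IsSplitMono u := IsSplitMono.mk' ⟨v ≫ inv (u ≫ v), by rw [← Category.assoc, IsIso.hom_inv_id]⟩
  haveI : Epi u := epi_of_epi v u
  exact ⟨@asIso _ _ _ _ u (isIso_of_mono_of_epi u)⟩

end LiftHomLib
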